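import Groth.Agent.Lib.Descend.PointLocal
import Mathlib.AlgebraicGeometry.Morphisms.FormallyUnramified
import Mathlib.AlgebraicGeometry.Morphisms.Smooth
import Mathlib.AlgebraicGeometry.AlgClosed.Basic
import Mathlib.RingTheory.Unramified.LocalRing
import Mathlib.RingTheory.Unramified.Locus

/-!
# Unramified and etale neighbourhoods from stalk conditions
-/

set_option autoImplicit false
set_option linter.style.haveILetI false
universe u

open CategoryTheory AlgebraicGeometry IsLocalRing

namespace Groth.Agent.EtaleNhd17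

variable {X Y : Scheme.{u}} (f : X ⟶ Y)

theorem formallyUnramified_stalkMap_iff {x : X} (U : Y.Opens) (hU : IsAffineOpen U) (V : X.Opens)
    (hV : IsAffineOpen V) (hVU : V ≤ f ⁻¹ᵁ U) (hx : x ∈ V) :
    letI := (f.appLE U V hVU).hom.toAlgebra
    (f.stalkMap x).hom.FormallyUnramified ↔
      Algebra.IsUnramifiedAt Γ(Y, U) (hV.primeIdealOf ⟨x, hx⟩).asIdeal := by
  let := (f.appLE U V hVU).hom.toAlgebra
  let p := (hU.primeIdealOf ⟨f x, hVU hx⟩).asIdeal
  let q := (hV.primeIdealOf ⟨x, hx⟩).asIdeal
  have : q.LiesOver p :=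
    ⟨congr($(IsAffineOpen.comap_primeIdealOf_appLE U hU V hV hVU hx).1).symm⟩
  let := Localization.AtPrime.algebraOfLiesOver p q
  trans Algebra.FormallyUnramified (Localization.AtPrime p) (Localization.AtPrime q)
  · rw [← RingHom.formallyUnramified_algebraMap]
    exact RingHom.FormallyUnramified.respectsIso.arrow_mk_iso_iff
      (IsAffineOpen.arrowStalkMapIso f U hU V hV hVU hx)
  · exact ⟨fun _ => Algebra.FormallyUnramified.comp _ (Localization.AtPrime p) _,
      fun _ => .of_restrictScalars Γ(Y, U) _ _⟩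

/-- A morphism of finite type is unramified near every point where its stalk map is. -/
theorem exists_formallyUnramified_of_stalk [LocallyOfFiniteType f] (x : X)
    (H : (f.stalkMap x).hom.FormallyUnramified) :
    ∃ V : X.Opens, x ∈ V ∧ FormallyUnramified (V.ι ≫ f) := by
  obtain ⟨U, hU, hxU, -⟩ := exists_isAffineOpen_mem_and_subset (X := Y) (x := f x) (U := ⊤) trivial
  obtain ⟨V, hV, hxV, hVU⟩ := exists_isAffineOpen_mem_and_subset (X := X) (x := x) (U := f ⁻¹ᵁ U) hxU
  have hft := f.finiteType_appLE hU hV hVU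
  algebraize [(f.appLE U V hVU).hom]
  have : Algebra.IsUnramifiedAt _ _ := (formallyUnramified_stalkMap_iff f U hU V hV hVU hxV).mp H
  obtain ⟨r, hrx, hr⟩ := Algebra.exists_unramified_of_isUnramifiedAt (R := Γ(Y, U))
    (hV.primeIdealOf ⟨x, hxV⟩).asIdeal
  refine ⟨X.basicOpen r, ?_, ?_⟩
  · have h1 : hV.fromSpec (hV.primeIdealOf ⟨x, hxV⟩) = x := hV.fromSpec_primeIdealOf ⟨x, hxV⟩
    have h2 : hV.primeIdealOf ⟨x, hxV⟩ ∈ hV.fromSpec ⁻¹ᵁ X.basicOpen r := by
      rw [hV.fromSpec_preimage_basicOpen]; exact hrx
    exact h1 ▸ h2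
  have hW : IsAffineOpen (X.basicOpen r) := hV.basicOpen r
  have hWU : X.basicOpen r ≤ f ⁻¹ᵁ U := (X.basicOpen_le r).trans hVU
  have hfu : (f.appLE U (X.basicOpen r) hWU).hom.FormallyUnramified := by
    have := hV.isLocalization_basicOpen r
    have h2 : ((algebraMap Γ(X, V) (Localization.Away r)).comp (algebraMap Γ(Y, U) Γ(X, V))).FormallyUnramified := by
      rw [← IsScalarTower.algebraMap_eq, RingHom.formallyUnramified_algebraMap]
      exact hr.1
    convert! RingHom.FormallyUnramified.respectsIso.1 _
      (IsLocalization.algEquiv (Submonoid.powers r) (Localization.Away r) Γ(X, X.basicOpen r)).toRingEquiv h2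
    ext a
    dsimp
    rw [AlgEquiv.commutes]
    exact (ConcreteCategory.congr_hom (f.appLE_map hVU (homOfLE (X.basicOpen_le r)).op) a).symm
  haveI : IsAffine U := hU
  haveI : IsAffine (X.basicOpen r) := hW
  rw [← Scheme.Hom.resLE_comp_ι f hWU]
  haveI : FormallyUnramified (f.resLE U (X.basicOpen r) hWU) := by
    rw [HasRingHomProperty.iff_of_isAffine (P := @FormallyUnramified)]
    exact (RingHom.FormallyUnramified.respectsIso.arrow_mk_iso_iff
      (arrowResLEAppIso f U (X.basicOpen r) hWU)).mpr hfu
  exact MorphismProperty.comp_mem @FormallyUnramified _ _ inferInstance inferInstance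

theorem exists_etale_of_stalk [LocallyOfFinitePresentation f] (x : X)
    (hfl : (f.stalkMap x).hom.Flat) (H : (f.stalkMap x).hom.FormallyUnramified) :
    ∃ V : X.Opens, x ∈ V ∧ Etale (V.ι ≫ f) :=
  Descend.etale_nhd_of_flat_of_unramified f x hfl (exists_formallyUnramified_of_stalk f x H)

theorem formallyUnramified_stalkMap_of_nhd (x : X) {V : X.Opens} (hx : x ∈ V)
    [FormallyUnramified (V.ι ≫ f)] : (f.stalkMap x).hom.FormallyUnramified := by
  have h := FormallyUnramified.stalkMap (V.ι ≫ f) ⟨x, hx⟩
  rw [Scheme.Hom.stalkMap_comp V.ι f ⟨x, hx⟩] at h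
  haveI : IsIso (V.ι.stalkMap ⟨x, hx⟩) := (IsOpenImmersion.iff_isIso_stalkMap.1 inferInstance).2 _
  exact (RingHom.FormallyUnramified.respectsIso.cancel_right_isIso (f.stalkMap (V.ι ⟨x, hx⟩)) (V.ι.stalkMap ⟨x, hx⟩)).1 h

/-- Unramifiedness of the stalk map: maximal ideal generated and separable residue extension. -/
theorem formallyUnramified_stalkMap_iff_map_eq [LocallyOfFiniteType f] (x : X) :
    letI := (f.residueFieldMap x).hom.toAlgebra
    (f.stalkMap x).hom.FormallyUnramified ↔
      Algebra.IsSeparable (Y.residueField (f x)) (X.residueField x) ∧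
        Ideal.map (f.stalkMap x).hom (maximalIdeal (Y.presheaf.stalk (f x))) =
          maximalIdeal (X.presheaf.stalk x) := by
  letI := (f.residueFieldMap x).hom.toAlgebra
  algebraize [(f.stalkMap x).hom]
  haveI : Algebra.EssFiniteType (Y.presheaf.stalk (f x)) (X.presheaf.stalk x) :=
    LocallyOfFiniteType.stalkMap f x
  haveI : IsLocalHom (algebraMap (Y.presheaf.stalk (f x)) (X.presheaf.stalk x)) :=
    inferInstanceAs <| IsLocalHom (f.stalkMap x).hom
  refine Iff.trans (Iff.trans RingHom.formallyUnramified_algebraMap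
    Algebra.FormallyUnramified.iff_map_maximalIdeal_eq) (and_congr_left' ?_)
  have : (ResidueField.instAlgebra :
      Algebra (ResidueField (Y.presheaf.stalk (f x))) (ResidueField (X.presheaf.stalk x))) =
      (f.residueFieldMap x).hom.toAlgebra := by
    refine Algebra.algebra_ext _ _ fun a => ?_
    obtain ⟨a, rfl⟩ := IsLocalRing.residue_surjective a
    rfl
  constructor
  · intro h; convert! h; exact this.symm
  · intro h; convert! h

/-- At closed points of schemes of finite type over an algebraically closed field the residue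
extension is trivial. -/
theorem bijective_residueFieldMap {k : Type u} [Field k] [IsAlgClosed k]
    (pX : X ⟶ Spec (CommRingCat.of k)) (pY : Y ⟶ Spec (CommRingCat.of k)) (w : f ≫ pY = pX)
    [LocallyOfFiniteType pX] [LocallyOfFiniteType pY] {x : X} (hx : IsClosed ({x} : Set X))
    (hy : IsClosed ({f x} : Set Y)) : Function.Bijective (f.residueFieldMap x) := by
  have h : (residueFieldIsoBase pY (f x) hy).inv ≫ f.residueFieldMap x = (residueFieldIsoBase pX x hx).inv := by
    apply Spec.map_injective
    rw [Spec.map_comp, SpecMap_residueFieldIsoBase_inv, SpecMap_residueFieldIsoBase_inv,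
      Scheme.Hom.SpecMap_residueFieldMap_fromSpecResidueField_assoc, w]
  have h2 : f.residueFieldMap x =
      (residueFieldIsoBase pY (f x) hy).hom ≫ (residueFieldIsoBase pX x hx).inv := by
    rw [← h, Iso.hom_inv_id_assoc]
  haveI : IsIso (f.residueFieldMap x) := by rw [h2]; infer_instance
  exact ConcreteCategory.bijective_of_isIso _

end Groth.Agent.EtaleNhd17
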